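import Cfsg.Agent.CosetCert.Pack

/-! Generated: the facts of the log. -/

namespace Cfsg.Agent.Fi23Mult.W27

open Cfsg.Agent.CosetCert

def factStore : Store := (.leaf 0x50001a0001a040001a0001a030001a0001a020001a0001a010001a0001a050001900019040001900019030001900019020001900019050001800018040001800018030001800018000001800018040001700017030001600017010001700017000001700017040001400016020001600016010001600016000001600016040001500015020001500015010001500015000001500015030001400014020001400014010001400014000001400014020001200013010001300013000001300013050001200012030001200012010001000012000001200012030001100011010001100011000001100011050001000010030001000010020001000010000000e00010050000f0000f010000d0000f000000f0000f050000e0000e030000e0000e020000e0000e010000e0000e050000d0000d020000d0000d000000b0000d050000c0000c040000c0000c020000c0000c000000c0000c050000b0000b020000b0000b010000b0000b050000a0000a040000a0000a00000090000a050000900009040000900009010000900009040000800008030000800008010000800008000000700008040000700007030000700007010000500007040000600006030000600006020000600006010000600006040000500005030000500005020000500005000000500005040000400004030000400004020000400004040000300003030000300003000000300003050000200002040000200002010000200002000000200002050000100001020000100001010000100001000000100001050000000000030000000000020000000000010000000000000000000000000001a0001901000190001802000180001705000170001505000160001303000150001305000140001104000130001104000120000f02000110000f04000100000d030000f0000c040000e0000b030000d0000a010000c0000a030000b00009020000a00008020000900007050000800006050000700004000000600004050000500003010000400003020000300002030000200001040000100000)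

end Cfsg.Agent.Fi23Mult.W27
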