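import Cfsg.Agent.CosetCert.Pack

/-! Generated: the justifications. -/

namespace Cfsg.Agent.Fi23Mult.W27

open Cfsg.Agent.CosetCert

def justStore : Store := (.node 1 (.leaf 0x110000480007101020200007c0001540000d0000440001004010e00007de0000880002004021a0000f740006a000044000100001ac0c081c00017c0000e0001a404084c0001bc0000e00019c0408440001bc0000e00018c0408280001b40000e0000280408140001340000c00016404084c0001340000c00015c0408440001240000c0000180408280000ec80001600005010082000025700002c0000a02010300004aa000058000140402040000980004f00001c0000b0000281004040001240000800014c04084c0000e4000080001440408440000e680000a00004800010000020181070000148000100002780810280001d300001c0000602010900003a20000380000c040210000070000490000140000700001810041c0000e580000a0000201008680001400021800006000028000080802180000540000400011c0408080000a28000060000101008880000f6000008000060000102008800000e00001000082020410000038000040001f80810180000fa00000800000040226000010000000003901020d000008000000001b808104800004000000000d404081000002000000f800007800003a00001c0000000d8900d2c00ca400c4500bba00b5e00b0200aa600a4a009ee0099200936008d700878008190079200736006da0064f005f30059400535004ae0044f003c90036e0030f0029b00241001e70018900130000d70007e000640004b0003200019000000000000000000000000000000000000000000000000000000000000000000000000000000000000000000000000000000000000000000000000000000000000000) (.leaf 0x1e200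01980006404020a00033de0001980006404020800033da0001980006404020600033d6000198000640402040003380001c600018800066000190200808000cf4800062000180100850000c73800062000180100848000c72800062000180100840000c5c0006e80005e0001880006008020e00031600019e0001680005e000170200870000bf080005e000170100868000bef8001ae0006f00005e000170200860000bde000170001b60204040002f6800058000688081098000ad600016000050020422000276800058000668081050000ada0001600019602040a0002b38000540001200810980008dd800180000158000540006081810700009560001500017e0204140002758000540005e80810280009c80005980004a00014800050080220000277200060000052000140001820604180002548000500005f80810400009d20001400017a02040600027380004c0005980810880008d28000420001380004c0001001810700007ce0001300016202041400023380004c0005780810280008c60001200004002041a0001f28000480005880810480008ca0001200015e020408000234a000118000440402260001f1e0000e8000460001100003806042000019f000088000a30102090000d8c000220002840408100003f80004680003a000108000400802180001f2a000510000420001000014606040e0001b08000400005080810100007cb80003e0000f01008980006c08000320000f80003c0000c018108000057c0001e0002540408340003760000f00012602040800017220000e800038040222000199000070000160102080000ae8000380004580810180006448000360000d01008980005fb0000540001b0000680001403021000009d8000340004380810680005ec0001a0002140408240002e0c000190000600804440002ba8000260000c800030000090181060000454000180001fc04080c000260c000170000580804280002a04000170000580804240002a4000398000260000b80002c08020e00015e40007e00005c000160001fc0c080400027e80002a0000a01008880004ed000044000150000500001003020c00007a8000280003c80810400004f0000ca0000780002600009020087000047700004c0001202010d0000801a0101a0101a01019a101941018e101881017f70179701737016d70164d015c301563014d7014790141b013bd0135f01301012a301217011b90115b010d10104500fe700f8900f2b00e9f00e4100de300d8500d2700cc900c6900bdd00b8000b2200a9900a0d009af0094f008c30086600809007a90074c006ef0068f00604005a70054a004ea0045f00402003a200342002b90022e001cf00144000e70005f00000))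

end Cfsg.Agent.Fi23Mult.W27
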