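import Cfsg.Agent.CosetCert.Pack

/-! Generated: the table. -/

namespace Cfsg.Agent.Fi23Mult.W27

open Cfsg.Agent.CosetCert

def edgeStore : Store := (.node 1 (.leaf 0xcc0001500000ca0001500000270001100000d90001600000c80001400000c60001400000c40001400000c200014000002a0001600000250001100000280001500000c00001200000be0001300000bc0001300000ba0001200000230000f00000b80001200000c10001300000b60001000000b40001200000260001400000240001300000b20001100000210000f00000b00001100000ae0001100000ac00010000001f0000d00000aa0001000000a80001000000b70001200000a60000e00000a40000f000002200012000001d0000c00000200001100000a20000d00000a00000f000009e0000e000001b0000b000009c0000e000009a0000e00000980000e00000a70001000000960000d000001e0001000000190000a00000940000d00000a30000f00000920000b00000900000c000008e0000c000001c0000f000008c0000c00000170000a000008a0000c00000880000b000001a0000e00000150000900000860000b00000840000b00000930000d00000820000a00000800000a00000180000d00000130000800000160000c000007e00009000007c00009000007a0000900000140000b000001100007000007800009000007f0000a000000f0000600000760000800000740000800000120000a000007200008000007000007000000d00004000006e00007000006c00007000001000009000006a00005000007100008000000e00008000006800006000006600006000006400006000006200006000000b00004000000900003000006000005000005e00005000005c00005000006b00007000005a00005000000c00007000005800004000005600004000005400004000000700003000000a00006000000800005000005200003000005000003000000500002000000600004000004e00003000004c00002000004a00002000000300001000000400003000004800002000004600002000004400001000000100000000000200002000004200001000004000001000003e00001000003c00000000000000001000003a00000000003800000000003600000000003400000)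 (.leaf 0xfa0001a00000f80001a00000f60001a00000f40001a00000f20001a00000330001900000f00001900000ee0001900000ec0001900000ea0001900000310001800000320001a00000e80001800000e60001800000e400018000002f0001700000300001900000e200018000002d0001500000e00001700000de00016000002e0001800000dc0001700000da00017000002b0001300000d80001400000df0001700000d60001600000d40001600000d200016000002c0001700000d00001500000290001300000ce00015))

def repStore : Store := (.leaf 0x1a00000000001900000000001800000000001700000000001600000000001500000000001400000000001300000000001200000000001100000000001000000000000f00000000000e00000000000d00000000000c00000000000b00000000000a000000000009000000000008000000000007000000000006000000000005000000000004000000000003000000000002000000000001000000000000)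

def treeStore : Store := (.leaf 0x3200000000003010000000002e20000000002a50000000002650000000002630000000002250000000002240000000001e40000000001e20000000001a40000000001830000000001640000000001430000000001410000000001230000000001020000000000e20000000000c5000000000085000000000080000000000065000000000061000000000042000000000023000000000004000000000000)

end Cfsg.Agent.Fi23Mult.W27
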